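import Cfsg.Agent.Mrg.Omega.FrameI
import Cfsg.Agent.Omega.EH3.CoTwo.Facts
import Cfsg.Agent.LargeExtra.Local
import Cfsg.Agent.Omega.EH3.CoTwo.Conj
import Cfsg.Agent.Omega.EH3.CoTwo.Good
import Cfsg.Agent.Omega.EH3.CoTwo.Move
import Cfsg.Agent.Omega.EH3.Of

section


/-!
# EH3, row `Co₂`, (10): from a good vector of `D` to LEMMA SH (helper665)
-/

set_option autoImplicit false
set_option linter.unusedSectionVars false
set_option linter.unusedVariables false

namespace Cfsg.Agent.Omega.EH3.CoTwo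

open Subgroup Cfsg.Agent.Omega.EH3 Cfsg.Agent.Omega.Shadow
open Cfsg.Agent.Co2Type.Quad Cfsg.Agent.LargeExtra.Base Cfsg.Agent.LargeExtra.Local

/-- `v` is good: `O₂` of the stabiliser is trivial, and `⟨v⟩` is a maximal invariant isotropic subspace over `v`. -/
def Good {H V : Type*} [Group H] [AddCommGroup V] [Module (ZMod 2) V]
    (ρ : H →* (V ≃ₗ[ZMod 2] V)) (b : LinearMap.BilinForm (ZMod 2) V) (v : V) : Prop :=
  (∀ U : Subgroup H, (∀ u ∈ U, ρ u v = v) → IsPGroup 2 U →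
    (∀ g, ρ g v = v → ∀ u ∈ U, g * u * g⁻¹ ∈ U) → U = ⊥) ∧
  (∀ F0 : Submodule (ZMod 2) V, v ∈ F0 → (∀ u ∈ F0, ∀ u' ∈ F0, b u u' = 0) →
    (∀ g, ρ g v = v → ∀ u ∈ F0, ρ g u ∈ F0) → ∀ u ∈ F0, u = 0 ∨ u = v)

section

variable {G : Type*} [Group G] {Q A : Subgroup G} {z a : G}

theorem stab_iff (h : Large Q z) (c : centralizer ({z} : Set G)) (x : Q) :
    h.act c (h.pr x) = h.pr x ↔ Stab z (x : G) (c : G) := by
  have hcz : (c : G) * z = z * c := mem_centralizer_singleton_iff.1 c.2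
  rw [h.act_pr, h.pr_eq_pr, h.conjQ_coe]
  exact ⟨fun h1 => ⟨hcz, h1⟩, fun h1 => h1.2⟩

theorem noTwo_of_good [Finite G] (p : Pair Q z A a) (x : Q)
    (hg : Good (p.H.subtype : p.H →* (p.lz.V ≃ₗ[ZMod 2] p.lz.V)) p.lz.b (p.lz.pr x)) :
    NoTwo Q z (x : G) := by
  intro U hU2 hQU hUS hUn
  have hbot : (img p.lz U).subgroupOf p.H = ⊥ := by
    refine hg.1 _ ?_ ?_ ?_
    · rintro ⟨f, hfH⟩ hf
      obtain ⟨c, hc, hcf⟩ := (mem_img p.lz U _).1 (mem_subgroupOf.1 hf)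
      show f (p.lz.pr x) = p.lz.pr x
      have hcf' : p.lz.act c = f := hcf
      rw [← hcf']
      exact (stab_iff p.lz c x).2 (hUS _ hc)
    · rintro ⟨⟨f, hfH⟩, hf⟩
      obtain ⟨c, hc, hcf⟩ := (mem_img p.lz U _).1 (mem_subgroupOf.1 hf)
      have hcf' : p.lz.act c = f := hcf
      obtain ⟨k, hk⟩ := hU2 ⟨c, hc⟩
      refine ⟨k, Subtype.ext (Subtype.ext ?_)⟩
      show f ^ (2 ^ k) = 1
      have h1 : c ^ (2 ^ k) = 1 := by
        apply Subtype.ext
        have := congrArg (fun t : U => (t : G)) hk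
        simpa using this
      rw [← hcf', ← map_pow, h1, map_one]
    · rintro ⟨g, hgH⟩ hgv ⟨f, hfH⟩ hf
      obtain ⟨c, hc, hcf⟩ := (mem_img p.lz U _).1 (mem_subgroupOf.1 hf)
      have hcf' : p.lz.act c = f := hcf
      obtain ⟨d, hd⟩ := hgH
      have hgv' : g (p.lz.pr x) = p.lz.pr x := hgv
      have hdS : Stab z (x : G) (d : G) := (stab_iff p.lz d x).1 (by rw [hd]; exact hgv')
      rw [mem_subgroupOf]
      show g * f * g⁻¹ ∈ img p.lz U
      rw [mem_img]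
      refine ⟨d * c * d⁻¹, ?_, ?_⟩
      · exact hUn _ hdS _ hc
      · rw [map_mul, map_mul, map_inv, hd, hcf']
  intro u hu
  have huz : u * z = z * u := (hUS u hu).1
  have huC : u ∈ centralizer ({z} : Set G) := mem_centralizer_singleton_iff.2 huz
  have h1 : (⟨p.lz.act ⟨u, huC⟩, ⟨⟨u, huC⟩, rfl⟩⟩ : p.H) ∈ (img p.lz U).subgroupOf p.H := by
    rw [mem_subgroupOf]
    exact (mem_img p.lz U _).2 ⟨⟨u, huC⟩, hu, rfl⟩
  rw [hbot, mem_bot] at h1
  exact p.lz.mem_of_act ⟨u, huC⟩ (congrArg Subtype.val h1)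

theorem noIso_of_good (p : Pair Q z A a) (x : Q)
    (hg : Good (p.H.subtype : p.H →* (p.lz.V ≃ₗ[ZMod 2] p.lz.V)) p.lz.b (p.lz.pr x)) :
    NoIso Q z (x : G) := by
  intro U hUQ hzU hxU hUc hUn
  have key := hg.2 (sub p.lz U) ((pr_mem_sub p.lz hzU x).2 hxU) ?_ ?_
  · intro u hu
    have h1 := key (p.lz.pr ⟨u, hUQ hu⟩) ((pr_mem_sub p.lz hzU ⟨u, hUQ hu⟩).2 hu)
    rcases h1 with h2 | h2
    · rcases p.lz.pr_eq_zero.1 h2 with h3 | h3
      · exact Or.inl h3
      · exact Or.inr (Or.inl h3)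
    · rcases p.lz.pr_eq_pr.1 h2 with h3 | h3
      · exact Or.inr (Or.inr (Or.inl h3))
      · exact Or.inr (Or.inr (Or.inr h3))
  · rintro _ ⟨u, hu, rfl⟩ _ ⟨v, hv, rfl⟩
    exact (p.lz.b_pr u v).2 (hUc _ hu _ hv)
  · rintro ⟨g, hgH⟩ hgv _ ⟨u, hu, rfl⟩
    obtain ⟨d, hd⟩ := hgH
    have hgv' : g (p.lz.pr x) = p.lz.pr x := hgv
    have hdS : Stab z (x : G) (d : G) := (stab_iff p.lz d x).1 (by rw [hd]; exact hgv')
    show g (p.lz.pr u) ∈ sub p.lz U
    rw [← hd, p.lz.act_pr, pr_mem_sub p.lz hzU]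
    exact hUn _ hdS _ hu

/-- a fixed point of an element of order `3` on a coset of `⟨z, a⟩` in `D`. -/
theorem exists_fixed (p : Pair Q z A a) {x : G} (hxQ : x ∈ Q) (hxA : x ∈ A) :
    ∃ t y : G, t * z * t⁻¹ = a ∧ t * a * t⁻¹ = a * z ∧ t * y = y * t ∧
      (y = x ∨ y = x * z ∨ y = x * a ∨ y = x * a * z) := by
  obtain ⟨y, hy, hya⟩ := exists_not_comm p.lz p.a_mem p.la.z_ne p.ne
  obtain ⟨y', hy', hyz'⟩ := exists_not_comm p.la p.z_mem p.lz.z_ne p.ne.symm
  have hza : a * z = z * a := p.comm_za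
  have hz2 := p.lz.z_sq
  have ha2 := p.la.z_sq
  have hxz : x * z = z * x := p.lz.comm_z x hxQ
  have hxa : x * a = a * x := p.la.comm_z x hxA
  have hyz : y * z * y⁻¹ = z := by rw [p.lz.comm_z y hy]; group
  have hya' : y' * a * y'⁻¹ = a := by rw [p.la.comm_z y' hy']; group
  have hyaa : y * a * y⁻¹ = a * z := by
    rw [hya]
    have h1 := p.lz.comm_z y⁻¹ (inv_mem hy)
    calc a * y * z * y⁻¹ = a * y * (z * y⁻¹) := by group
      _ = a * y * (y⁻¹ * z) := by rw [h1]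
      _ = a * z := by group
  have hyzz : y' * z * y'⁻¹ = z * a := by
    rw [hyz']
    have h1 := p.la.comm_z y'⁻¹ (inv_mem hy')
    calc z * y' * a * y'⁻¹ = z * y' * (a * y'⁻¹) := by group
      _ = z * y' * (y'⁻¹ * a) := by rw [h1]
      _ = z * a := by group
  obtain ⟨t, ht⟩ : ∃ t, t = y * y' := ⟨_, rfl⟩
  have htz : t * z * t⁻¹ = a := by
    calc t * z * t⁻¹ = y * (y' * z * y'⁻¹) * y⁻¹ := by rw [ht]; group
      _ = (y * z * y⁻¹) * (y * a * y⁻¹) := by rw [hyzz]; group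
      _ = z * (a * z) := by rw [hyz, hyaa]
      _ = z * z * a := by rw [hza]; group
      _ = a := by rw [hz2, one_mul]
  have hta : t * a * t⁻¹ = a * z := by
    calc t * a * t⁻¹ = y * (y' * a * y'⁻¹) * y⁻¹ := by rw [ht]; group
      _ = a * z := by rw [hya', hyaa]
  have htaz : t * (a * z) * t⁻¹ = z := by
    calc t * (a * z) * t⁻¹ = (t * a * t⁻¹) * (t * z * t⁻¹) := by group
      _ = a * z * a := by rw [hta, htz]
      _ = z * (a * a) := by rw [hza]; group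
      _ = z := by rw [ha2, mul_one]
  have hfin : ∀ w : G, t * w * t⁻¹ = w → t * w = w * t := fun w hw => mul_inv_eq_iff_eq_mul.1 hw
  have h1 := p.conj_D hxA hy'
  have h2 : y * x * y⁻¹ = x ∨ y * x * y⁻¹ = x * z := p.symm.conj_D hxQ hy
  refine ⟨t, ?_⟩
  have htx : t * x * t⁻¹ = y * (y' * x * y'⁻¹) * y⁻¹ := by rw [ht]; group
  rcases h1 with h1 | h1 <;> rw [h1] at htx
  · rcases h2 with h2 | h2 <;> rw [h2] at htx
    · exact ⟨x, htz, hta, hfin x htx, Or.inl rfl⟩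
    · refine ⟨x * a, htz, hta, hfin _ ?_, Or.inr (Or.inr (Or.inl rfl))⟩
      calc t * (x * a) * t⁻¹ = (t * x * t⁻¹) * (t * a * t⁻¹) := by group
        _ = x * z * (a * z) := by rw [htx, hta]
        _ = x * (z * a) * z := by group
        _ = x * (a * z) * z := by rw [hza]
        _ = x * a * (z * z) := by group
        _ = x * a := by rw [hz2, mul_one]
  · have h3 : y * (x * a) * y⁻¹ = (y * x * y⁻¹) * (a * z) := by rw [← hyaa]; group
    rw [h3] at htx
    rcases h2 with h2 | h2 <;> rw [h2] at htx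
    · refine ⟨x * z, htz, hta, hfin _ ?_, Or.inr (Or.inl rfl)⟩
      calc t * (x * z) * t⁻¹ = (t * x * t⁻¹) * (t * z * t⁻¹) := by group
        _ = x * (a * z) * a := by rw [htx, htz]
        _ = x * z * (a * a) := by rw [hza]; group
        _ = x * z := by rw [ha2, mul_one]
    · refine ⟨x * a * z, htz, hta, hfin _ ?_, Or.inr (Or.inr (Or.inr rfl))⟩
      calc t * (x * a * z) * t⁻¹ = (t * x * t⁻¹) * (t * (a * z) * t⁻¹) := by group
        _ = x * z * (a * z) * z := by rw [htx, htaz]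
        _ = x * z * a * (z * z) := by group
        _ = x * (z * a) := by rw [hz2, mul_one, mul_assoc]
        _ = x * a * z := by rw [← hza, mul_assoc]

/-- **LEMMA SH for a good vector of `D`.** -/
theorem false_of_good [Finite G] (hG : IsCharacteristicTwoType G) (p : Pair Q z A a)
    (hcard : 8 < Nat.card Q) {v : p.lz.V} (hv : v ∈ p.D) (hv0 : v ≠ 0) (hva : v ≠ p.va)
    (g1 : Good (p.H.subtype : p.H →* (p.lz.V ≃ₗ[ZMod 2] p.lz.V)) p.lz.b v)
    (g2 : Good (p.H.subtype : p.H →* (p.lz.V ≃ₗ[ZMod 2] p.lz.V)) p.lz.b (v + p.va)) : False := by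
  obtain ⟨x, hxA, rfl⟩ := p.mem_D.1 hv
  obtain ⟨t, y, htz, hta, hty, hy⟩ := exists_fixed p x.2 hxA
  have hyQ : y ∈ Q := by
    rcases hy with h | h | h | h <;> rw [h]
    · exact x.2
    · exact mul_mem x.2 p.lz.z_mem
    · exact mul_mem x.2 p.a_mem
    · exact mul_mem (mul_mem x.2 p.a_mem) p.lz.z_mem
  have hyA : y ∈ A := by
    rcases hy with h | h | h | h <;> rw [h]
    · exact hxA
    · exact mul_mem hxA p.z_mem
    · exact mul_mem hxA p.la.z_mem
    · exact mul_mem (mul_mem hxA p.la.z_mem) p.z_mem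
  have hpr : p.lz.pr ⟨y, hyQ⟩ = p.lz.pr x ∨ p.lz.pr ⟨y, hyQ⟩ = p.lz.pr x + p.va := by
    rcases hy with h | h | h | h
    · left; rw [p.lz.pr_eq_pr]; exact Or.inl h
    · left; rw [p.lz.pr_eq_pr]; exact Or.inr h
    · right
      show _ = p.lz.pr x + p.lz.pr ⟨a, p.a_mem⟩
      rw [← p.lz.pr_mul, p.lz.pr_eq_pr]; exact Or.inl h
    · right
      show _ = p.lz.pr x + p.lz.pr ⟨a, p.a_mem⟩
      rw [← p.lz.pr_mul, p.lz.pr_eq_pr]; exact Or.inr h
  have hg : Good (p.H.subtype : p.H →* (p.lz.V ≃ₗ[ZMod 2] p.lz.V)) p.lz.b (p.lz.pr ⟨y, hyQ⟩) := by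
    rcases hpr with h | h <;> rw [h]
    · exact g1
    · exact g2
  have hy0 : p.lz.pr ⟨y, hyQ⟩ ≠ 0 := by
    rcases hpr with h | h <;> rw [h]
    · exact hv0
    · intro h'
      apply hva
      have h1 := congrArg (· + p.va) h'
      simp only [add_assoc, p.lz.add_self, add_zero, zero_add] at h1
      exact h1
  have hy1 : y ≠ 1 := fun h => hy0 (p.lz.pr_eq_zero.2 (Or.inl h))
  have hyz : y ≠ z := fun h => hy0 (p.lz.pr_eq_zero.2 (Or.inr h))
  exact false_of_cycle hG p.lz hcard hyQ (p.sq_D hyQ hyA) hy1 hyz hty htz p.a_mem p.ne hta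
    (noTwo_of_good p ⟨y, hyQ⟩ hg) (noIso_of_good p ⟨y, hyQ⟩ hg)

end

end Cfsg.Agent.Omega.EH3.CoTwo

end

section


/-!
# EH3, row `Co₂` : the configuration with the facts `CoFacts` does not occur in characteristic 2 type (helper665)

(#12091, #12404 helper933; 962 = `Move`, 737 = `Good`)
-/

set_option autoImplicit false

namespace Cfsg.Agent.Omega.EH3.CoTwo

open Subgroup Cfsg.Agent.Omega.EH3
open Cfsg.Agent.Co2Type.Quad Cfsg.Agent.LargeExtra.Base

section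

variable {H V : Type*} [Group H] [AddCommGroup V] [Module (ZMod 2) V]
  {ρ : H →* (V ≃ₗ[ZMod 2] V)} {b : LinearMap.BilinForm (ZMod 2) V} {q : V → ZMod 2}
  {a : V} {D : Submodule (ZMod 2) V} {X : Subgroup H} {w : ℕ} {Xi Xf P : Subgroup H}

/-- `|Ξ_f| = 2⁹`. -/
theorem card_Xf (C : Cfg ρ b q a D X w) (F : CoFacts X Xi Xf P) {e : V} (he0 : e ≠ 0)
    (hea : e ≠ a) (heD : e ∈ D) (hf : ∀ x ∈ X, x ∈ Xf ↔ ρ x e = e) : Nat.card Xf = 2 ^ 9 := by
  have hfin := C.finite_H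
  have hle : Xf ≤ X := fun x hx => ((F.Xf_def x).1 hx).1
  -- an element of `X` moving `e`
  obtain ⟨s, hs, hse⟩ : ∃ s ∈ X, ρ s e ≠ e := by
    by_contra hcon
    push Not at hcon
    rcases fix_X C hcon with h | h
    · exact he0 h
    · exact hea h
  have h2 : Xf.relIndex X = 2 := by
    rw [relIndex_eq_two_iff]
    refine ⟨s, hs, fun y hy => ?_⟩
    have hse' : ρ s e = e + a := (C.X_D s hs e heD).resolve_left hse
    rcases C.X_D y hy e heD with h | h
    · right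
      refine ⟨(hf y hy).2 h, fun h1 => hse ?_⟩
      have h3 := (hf _ (X.mul_mem hy hs)).1 h1
      rw [C.ρ_mul, hse', map_add, h, C.X_a hy] at h3
      rw [hse']; exact h3
    · left
      refine ⟨(hf _ (X.mul_mem hy hs)).2 ?_, fun h1 => ?_⟩
      · rw [C.ρ_mul, hse', map_add, h, C.X_a hy, C.add_add_self]
      · have h3 := (hf y hy).1 h1
        rw [h] at h3
        apply C.a_ne
        have h4 : e + a = e + 0 := by rw [add_zero]; exact h3
        exact add_left_cancel h4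
  have h3 := card_mul_relIndex' hle
  rw [h2, F.card] at h3
  omega

theorem ptH_of_pt (C : Cfg ρ b q a D X w) (F : CoFacts X Xi Xf P) {x : V}
    (hx : Pt ρ a D X Xi x) : PtH ρ a D X Xi x where
  toPt := hx
  cen := fix_Xi C F hx
  nconj := fun g => ⟨not_conj C F hx g, not_conj C F (hx.add_a C) g⟩
  norm := norm_Xi C F hx
  move := by
    obtain ⟨c, hc⟩ := C.exists_off
    obtain ⟨e, heD, he0, hea, hf, g, hga, hge⟩ := exists_pt_P C F
    exact Cfsg.Agent.Omega.EH3.CoTwo.move C F hc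
      (exists_TT_ne C F.card F.irr hc (fun x hx => ((F.Xf_def x).1 hx).1)
        (card_Xf C F he0 hea heD hf)) hx.mem hx.ne0 hx.nea hx.fix

/-- **the vector `x̃` is good.** -/
theorem good_of_pt (C : Cfg ρ b q a D X w) (F : CoFacts X Xi Xf P) {x : V}
    (hx : Pt ρ a D X Xi x) : Good ρ b x :=
  ⟨fun U hU hU2 hn => PtH.good8 C F (ptH_of_pt C F hx) U hU hU2 hn,
    fun F0 h1 h2 h3 => PtH.good9 C F (ptH_of_pt C F hx) F0 h1 h2 h3⟩

/-- the abstract form: a good vector of `D`, and its `a`-translate is good. -/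
theorem main (C : Cfg ρ b q a D X w) (F : CoFacts X Xi Xf P) :
    ∃ x ∈ D, x ≠ 0 ∧ x ≠ a ∧ Good ρ b x ∧ Good ρ b (x + a) := by
  obtain ⟨x, hx⟩ := exists_point C F
  exact ⟨x, hx.mem, hx.ne0, hx.nea, good_of_pt C F hx, good_of_pt C F (hx.add_a C)⟩

end

/-- **the row `Co₂`**: a pair with the configuration and the facts on `K` is impossible. -/
theorem false_of_facts {G : Type*} [Group G] [Finite G] (hG : IsCharacteristicTwoType G)
    {Q A : Subgroup G} {z a : G} (p : Pair Q z A a) {w : ℕ}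
    (C : Cfg (p.H.subtype : p.H →* (p.lz.V ≃ₗ[ZMod 2] p.lz.V)) p.lz.b p.lz.q p.va p.D
      (p.X.subgroupOf p.H) w)
    {Xi Xf P : Subgroup p.H} (F : CoFacts (p.X.subgroupOf p.H) Xi Xf P) : False := by
  obtain ⟨x, hxD, hx0, hxa, g1, g2⟩ := main C F
  refine false_of_good hG p ?_ hxD hx0 hxa g1 g2
  have h1 := p.lz.card_eq
  have h2 := C.card_V
  have h3 : 2 ^ 4 ≤ Nat.card p.lz.V := by
    rw [h2]
    exact Nat.pow_le_pow_right (by norm_num) (by have := C.five; omega)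
  omega

end Cfsg.Agent.Omega.EH3.CoTwo

end
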