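import Cfsg.Agent.Mrg.Omega.EH3.CoTwo.Glue
import Cfsg.Agent.Omega.EH3.CoTwo.Transport
import Cfsg.Agent.Mrg.Omega.EH3.SitIrr
import Cfsg.Agent.Mrg.Omega.CoTwoK.Gen
import Cfsg.Agent.Mrg.Omega.CoTwoK.Normal
import Cfsg.Agent.KFacts.CoTwo.Main
import Cfsg.Agent.Schreier.CoTwoStab
import Mathlib.LinearAlgebra.Matrix.GeneralLinearGroup.Card
import Cfsg.Agent.Mrg.Omega.EH3.Main

section


/-!
# EH3, **the row `Co₂`** (helper665, helper904, helper933, helper962, helper737)

`row` : `G` of characteristic 2 type, `p : Pair Q z A a` with the configuration `Cfg` of width `11`, `L` normal in the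
image `p.H` of `C_G(z)`, `π : L → K` an odd cover of `K ≅ Co₂` : impossible.
-/

set_option autoImplicit false

namespace Cfsg.Agent.Omega.EH3.CoTwo.Row

open Subgroup Cfsg Cfsg.Agent.Omega.EH3 Cfsg.Agent.Omega.TwoF Cfsg.Agent.Omega.EH3.CoTwo
open Cfsg.Agent.Co2Type.Quad Cfsg.Agent.LargeExtra.Base
open Cfsg.Agent.Co2Type.TGroup Cfsg.Agent.Co2Type.FactsClass

theorem card_GL_two (n : ℕ) : Nat.card (Matrix.GeneralLinearGroup (Fin n) (ZMod 2)) =
    ∏ i ∈ Finset.range n, (2 ^ n - 2 ^ i) := by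
  have := Matrix.card_GL_field (𝔽 := ZMod 2) (n := n)
  rw [this, ZMod.card, ← Fin.prod_univ_eq_prod_range (fun i => 2 ^ n - 2 ^ i) n]

theorem not_dvd_GL {n : ℕ} (hn : n ≤ 11) :
    ¬ 125 ∣ Nat.card (Matrix.GeneralLinearGroup (Fin n) (ZMod 2)) := by
  rw [card_GL_two]
  interval_cases n <;> decide +kernel

/-- an elementary abelian subgroup of order `2^10`, normal in a Sylow 2-subgroup, corresponds to a conjugate of `E`. -/
theorem conj_E {H : Type*} [Group H] (e : H ≃* Spor.Co2) {X : Subgroup H}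
    (hsq : ∀ x ∈ X, x * x = 1) (hc : Nat.card X = 2 ^ 10) (T : Sylow 2 H) (hXT : X ≤ T)
    (hn : (T : Subgroup H) ≤ normalizer (X : Set H)) :
    ∃ g : Spor.Co2, X.map e.toMonoidHom = (E : Subgroup Spor.Co2).map (MulAut.conj g).toMonoidHom := by
  have h2 : Fact (Nat.Prime 2) := ⟨Nat.prime_two⟩
  have hfin : Finite H := Finite.of_equiv _ e.symm.toEquiv
  let T' : Sylow 2 Spor.Co2 := T.mapSurjective (f := e.toMonoidHom) e.surjective
  have hT' : (T' : Subgroup Spor.Co2) = (T : Subgroup H).map e.toMonoidHom :=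
    Sylow.coe_mapSurjective e.surjective T
  obtain ⟨g, hg⟩ := MulAction.exists_smul_eq Spor.Co2 T' TSyl
  have hg' : (TSyl : Subgroup Spor.Co2) =
      ((T : Subgroup H).map e.toMonoidHom).map (MulAut.conj g).toMonoidHom := by
    rw [← hg, Sylow.coe_subgroup_smul, hT']
    rfl
  rw [coe_TSyl] at hg'
  -- the image of `X`
  let Y : Subgroup Spor.Co2 := (X.map e.toMonoidHom).map (MulAut.conj g).toMonoidHom
  have hYT : Y ≤ Cfsg.Agent.Co2Type.TGroup.T := by
    rw [hg']
    exact map_mono (map_mono hXT)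
  have hYn : Cfsg.Agent.Co2Type.TGroup.T ≤ normalizer (Y : Set Spor.Co2) := by
    rw [hg']
    have h3 : (normalizer (X.map e.toMonoidHom : Set Spor.Co2)).map (MulAut.conj g).toMonoidHom =
        normalizer (Y : Set Spor.Co2) := map_equiv_normalizer_eq _ (MulAut.conj g)
    rw [← h3]
    refine map_mono ?_
    have h4 : (normalizer (X : Set H)).map e.toMonoidHom =
        normalizer ((X.map e.toMonoidHom : Subgroup Spor.Co2) : Set Spor.Co2) :=
      map_equiv_normalizer_eq X e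
    rw [← h4]
    exact map_mono hn
  have hYsq : ∀ y ∈ Y, y * y = 1 := by
    rintro _ ⟨_, ⟨x, hx, rfl⟩, rfl⟩
    rw [← map_mul, ← map_mul, hsq x hx, map_one, map_one]
  have hYc : Nat.card Y = 2 ^ 10 := by
    rw [← hc]
    exact (card_map' (MulAut.conj g) _).trans (card_map' e X)
  have hYE := Cfsg.Agent.Omega.CoTwoK.Unique.eq_E hYT hYn hYsq hYc
  refine ⟨g⁻¹, ?_⟩
  rw [← hYE, Subgroup.map_map]
  have h5 : (MulAut.conj g⁻¹).toMonoidHom.comp (MulAut.conj g).toMonoidHom =
      MonoidHom.id Spor.Co2 := by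
    ext x : 1
    show g⁻¹ * (g * x * g⁻¹) * g⁻¹⁻¹ = x
    group
  rw [h5, Subgroup.map_id]

section

variable {H V : Type*} [Group H] [AddCommGroup V] [Module (ZMod 2) V]
  {ρ : H →* (V ≃ₗ[ZMod 2] V)} {b : LinearMap.BilinForm (ZMod 2) V} {q : V → ZMod 2}
  {a : V} {D : Submodule (ZMod 2) V} {X : Subgroup H} {w : ℕ}

/-- the facts for a group isomorphic to `Co₂`. -/
theorem exists_facts (C : Cfg ρ b q a D X w) (hw : w = 11) (e : H ≃* Spor.Co2) :
    ∃ Xi Xf P : Subgroup H, CoFacts X Xi Xf P := by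
  obtain ⟨T, hXT, hTa⟩ := C.exists_syl
  refine CoFacts.exists_of e Cfsg.Agent.Omega.CoTwoK.Main.coFacts
    (conj_E e C.X_sq (by rw [C.card_X, hw]) T hXT ?_)
  rw [normalizer_X C]
  exact fun g hg => hTa hg

/-- `H ≅ Co₂`. -/
theorem exists_equiv (C : Cfg ρ b q a D X w) (hw : w = 11) {L : Subgroup H} (hL : L.Normal)
    {K : Type*} [Group K] (hK : Spor.IsoCo2 K) {π : L →* K} (hπ : OddCover π) :
    Nonempty (H ≃* Spor.Co2) := by
  obtain ⟨e⟩ := hK
  have hs := Cfsg.Agent.Schreier.CoTwoStab.isSimpleGroup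
  have hnc : ¬ IsMulCommutative Spor.Co2 := by
    intro hcm
    let hcg : CommGroup Spor.Co2 :=
      { (inferInstance : Group Spor.Co2) with mul_comm := fun x y => hcm.is_comm.comm x y }
    have h1 : (Nat.card Spor.Co2).Prime := @IsSimpleGroup.prime_card Spor.Co2 hcg hs
    rw [Cfsg.Agent.Co2Type.CardCo2.card_co2] at h1
    norm_num at h1
  have hπ' : OddCover (e.toMonoidHom.comp π) :=
    { perf := hπ.perf
      surj := e.surjective.comp hπ.surj
      cent := by
        intro l hl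
        refine hπ.cent ?_
        rw [MonoidHom.mem_ker] at hl ⊢
        exact (map_eq_one_iff e e.injective).1 hl
      odd := by
        have : (e.toMonoidHom.comp π).ker = π.ker := by
          ext l
          rw [MonoidHom.mem_ker, MonoidHom.mem_ker]
          exact map_eq_one_iff e e.injective
        rw [this]
        exact hπ.odd }
  exact CoverTop.nonempty_equiv C hnc hL hπ' (m := 125)
    (by rw [Cfsg.Agent.Co2Type.CardCo2.card_co2]; norm_num)
    (fun n hn => not_dvd_GL (hn.trans hw.le)) Cfsg.Agent.KFacts.CoTwo.QuotInst.allInner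

end

/-- **The row `Co₂`.** -/
theorem row {G : Type*} [Group G] [Finite G] (hG : IsCharacteristicTwoType G)
    {Q A : Subgroup G} {z a : G} (p : Pair Q z A a) {w : ℕ}
    (C : Cfg (p.H.subtype : p.H →* (p.lz.V ≃ₗ[ZMod 2] p.lz.V)) p.lz.b p.lz.q p.va p.D
      (p.X.subgroupOf p.H) w) (hw : w = 11) {L : Subgroup p.H} (hL : L.Normal)
    {K : Type*} [Group K] (hK : Spor.IsoCo2 K) {π : L →* K} (hπ : OddCover π) : False := by
  obtain ⟨e⟩ := exists_equiv C hw hL hK hπ
  obtain ⟨Xi, Xf, P, F⟩ := exists_facts C hw e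
  exact false_of_facts hG p C F

end Cfsg.Agent.Omega.EH3.CoTwo.Row

end

section


/-!
# EH3: the row `Co₂` in the form of the assembly (helper665)
-/

set_option autoImplicit false

namespace Cfsg.Agent.Omega.EH3.CoTwo.Close

open Subgroup Cfsg Cfsg.Agent.Omega.EH3 Cfsg.Agent.Omega.EH3.Main
open Cfsg.Agent.Omega.Frame (Ctx Cls All)

universe u

/-- **the row `Co₂`** -/
theorem rowG : RowG.{u} All (fun X _ w => Spor.IsoCo2 X ∧ w = 11) := by
  intro G _ _ _ Q A z a w S L hL hq hodd hX hP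
  exact (Row.row S.ctx.char2 S.pair S.cfg hP.2 hL hP.1 (oddCover_mk (commutator_eq_top hq) hodd)).elim

end Cfsg.Agent.Omega.EH3.CoTwo.Close

end
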